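import Cfsg.Agent.H98.Ore.Defs

/-!
# S2446, T0: frames and orthonormal bases (helper984)
-/

set_option autoImplicit false

namespace Cfsg.Agent.H984.Ore

open Module Polynomial Cfsg.Agent.H951 Cfsg.Agent.H98.Ore
open Cfsg.Agent.LieClassical.HermBasic

variable {F V : Type*} [Field F] [Fintype F] [AddCommGroup V] [Module F V] [FiniteDimensional F V]
  {q : ℕ} {σ : F →+* F} {B : V → V → F}

omit [FiniteDimensional F V] in
theorem herm1 (hB : HS q σ B) (u v : V) : B v u = σ (B u v) := by
  rw [hB.frm.herm u v, one_mul]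

omit [FiniteDimensional F V] in
theorem self_fix (hB : HS q σ B) (v : V) : B v v ^ q = B v v := by
  rw [← hB.sig, ← herm1 hB]

omit [FiniteDimensional F V] in
theorem exists_aniso (hB : HS q σ B) {U : Submodule F V} (hU : Nd B U) (h0 : U ≠ ⊥) : ∃ v ∈ U, B v v ≠ 0 := by
  by_contra hcon
  push Not at hcon
  obtain ⟨u, hu, hu0⟩ := (Submodule.ne_bot_iff _).1 h0
  obtain ⟨v, hv, huv⟩ := hU u hu hu0
  obtain ⟨x, hx⟩ := exists_trace_ne hB.card
  have hvu : B v u ≠ 0 := fun h => huv (hB.frm.eq_zero_comm.1 h)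
  apply hx
  have h1 := hcon (u + (x * (B v u)⁻¹) • v) (U.add_mem hu (U.smul_mem _ hv))
  rw [hB.frm.add_left, hB.frm.add_right, hB.frm.add_right, hB.frm.smul_left, hB.frm.smul_right, hB.frm.smul_right,
    hB.frm.smul_left, hcon u hu, hcon v hv, mul_zero, mul_zero, zero_add, add_zero, herm1 hB v u, ← map_mul,
    inv_mul_cancel_right₀ hvu] at h1
  rw [← hB.sig, add_comm]
  exact h1

omit [FiniteDimensional F V] in
theorem exists_unit (hB : HS q σ B) {U : Submodule F V} (hU : Nd B U) (h0 : U ≠ ⊥) : ∃ v ∈ U, B v v = 1 := by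
  obtain ⟨v, hv, hvv⟩ := exists_aniso hB hU h0
  obtain ⟨a, ha, h1⟩ := exists_norm_eq_ne hB.card (c := (B v v)⁻¹) (by rw [inv_pow, self_fix hB]) (inv_ne_zero hvv)
  refine ⟨a • v, U.smul_mem _ hv, ?_⟩
  rw [hB.frm.smul_left, hB.frm.smul_right, ← mul_assoc, hB.sig]
  first
    | rw [ha, inv_mul_cancel₀ hvv]
    | rw [h1, inv_mul_cancel₀ hvv]

omit [FiniteDimensional F V] in
theorem nd_span_singleton (hB : HS q σ B) {v : V} (hv : B v v ≠ 0) : Nd B (Submodule.span F {v}) := by
  intro u hu hu0
  obtain ⟨a, rfl⟩ := Submodule.mem_span_singleton.1 hu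
  refine ⟨v, Submodule.mem_span_singleton_self v, ?_⟩
  rw [hB.frm.smul_left]
  refine mul_ne_zero ?_ hv
  rintro rfl
  exact hu0 (zero_smul _ _)

theorem exists_ortho_aux (hB : HS q σ B) (n : ℕ) : ∀ U : Submodule F V, Nd B U → finrank F U = n →
    ∃ b : Fin n → V, (∀ i, b i ∈ U) ∧ ∀ i j, B (b i) (b j) = if i = j then 1 else 0 := by
  induction n with
  | zero => intro U _ _; exact ⟨Fin.elim0, fun i => i.elim0, fun i => i.elim0⟩
  | succ n ih =>
    intro U hU hn
    have h0 : U ≠ ⊥ := by
      rintro rfl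
      rw [finrank_bot] at hn
      omega
    obtain ⟨v, hv, hvv⟩ := exists_unit hB hU h0
    have hv0 : v ≠ 0 := by
      rintro rfl
      rw [hB.frm.zero_left] at hvv
      exact zero_ne_one hvv
    have hnd := nd_span_singleton hB (v := v) (by rw [hvv]; exact one_ne_zero)
    have hle : Submodule.span F {v} ≤ U := by
      rw [Submodule.span_singleton_le_iff_mem]
      exact hv
    have h1 := hB.frm.finrank_perp_inf hnd hle
    rw [finrank_span_singleton hv0] at h1
    obtain ⟨b, hb, hbb⟩ := ih _ (hB.frm.nd_perp_inf hU hnd hle) (by omega)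
    have hp : ∀ i, B (b i) v = 0 := fun i => (hb i).1 v (Submodule.mem_span_singleton_self v)
    have hp' : ∀ i, B v (b i) = 0 := fun i => hB.frm.eq_zero_comm.1 (hp i)
    refine ⟨Fin.cons v b, ?_, ?_⟩
    · intro i
      refine Fin.cases ?_ (fun i => ?_) i
      · exact hv
      · exact (hb i).2
    · intro i j
      refine Fin.cases ?_ (fun i => ?_) i <;> refine Fin.cases ?_ (fun j => ?_) j
      · rw [Fin.cons_zero, if_pos rfl, hvv]
      · rw [Fin.cons_zero, Fin.cons_succ, hp', if_neg (Fin.succ_ne_zero j).symm]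
      · rw [Fin.cons_zero, Fin.cons_succ, hp, if_neg (Fin.succ_ne_zero i)]
      · rw [Fin.cons_succ, Fin.cons_succ, hbb]
        simp only [Fin.succ_inj]

omit [FiniteDimensional F V] in
theorem nd_top (hB : HS q σ B) : Nd B (⊤ : Submodule F V) := by
  intro u _ hu0
  by_contra hcon
  push Not at hcon
  exact hu0 (hB.nd u fun v => hcon v Submodule.mem_top)

omit [FiniteDimensional F V] in
theorem linIndep_of_ortho (hB : HS q σ B) {ι : Type*} [DecidableEq ι] {b : ι → V}
    (h : ∀ i j, B (b i) (b j) = if i = j then 1 else 0) : LinearIndependent F b := by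
  rw [linearIndependent_iff']
  intro s g hg i hi
  have h1 := congrArg (fun x => B x (b i)) hg
  simp only [hB.frm.sum_left, hB.frm.smul_left, hB.frm.zero_left, h] at h1
  rw [Finset.sum_eq_single i (fun j _ hj => by rw [if_neg hj, mul_zero]) (fun h => absurd hi h), if_pos rfl,
    mul_one] at h1
  exact h1

/-- **T0b** -/
theorem exists_orthonormal (hB : HS q σ B) :
    ∃ b : Basis (Fin (finrank F V)) F V, ∀ i j, B (b i) (b j) = if i = j then 1 else 0 := by
  obtain ⟨b, -, hb⟩ := exists_ortho_aux hB (finrank F V) ⊤ (nd_top hB) (finrank_top F V)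
  have hli := linIndep_of_ortho hB hb
  refine ⟨Basis.mk hli (hli.span_eq_top_of_card_eq_finrank' (by rw [Fintype.card_fin])).ge, fun i j => ?_⟩
  rw [Basis.mk_apply, Basis.mk_apply]
  exact hb i j

omit [FiniteDimensional F V] in
/-- a hyperbolic plane -/
theorem plane (hB : HS q σ B) {w w' : V} (h : B w w = 0) (h' : B w' w' = 0) (h1 : B w w' = 1) :
    Nd B (Submodule.span F {w, w'}) ∧ finrank F (Submodule.span F {w, w'}) = 2 := by
  have h1' : B w' w = 1 := by rw [herm1 hB w w', h1, map_one]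
  have hli : LinearIndependent F ![w, w'] := by
    rw [LinearIndependent.pair_iff]
    intro s t hst
    constructor
    · have := congrArg (fun x => B x w') hst
      simp only [hB.frm.add_left, hB.frm.smul_left, hB.frm.zero_left, h', h1, mul_one, mul_zero, add_zero] at this
      exact this
    · have := congrArg (fun x => B x w) hst
      simp only [hB.frm.add_left, hB.frm.smul_left, hB.frm.zero_left, h, h1', mul_one, mul_zero, zero_add] at this
      exact this
  constructor
  · intro u hu hu0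
    obtain ⟨a, b, rfl⟩ := Submodule.mem_span_pair.1 hu
    by_cases ha : a = 0
    · refine ⟨w, Submodule.subset_span (Set.mem_insert _ _), ?_⟩
      rw [hB.frm.add_left, hB.frm.smul_left, hB.frm.smul_left, h, h1', mul_zero, mul_one, zero_add]
      rintro rfl
      exact hu0 (by rw [ha, zero_smul, zero_smul, add_zero])
    · refine ⟨w', Submodule.subset_span (Set.mem_insert_of_mem _ rfl), ?_⟩
      rw [hB.frm.add_left, hB.frm.smul_left, hB.frm.smul_left, h', h1, mul_zero, mul_one, add_zero]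
      exact ha
  · have h2 := finrank_span_eq_card hli
    rw [Matrix.range_cons, Matrix.range_cons, Matrix.range_empty, Set.union_empty, Fintype.card_fin,
      Set.singleton_union] at h2
    exact h2

/-- an isotropic vector in a nondegenerate subspace of dimension at least two -/
theorem exists_isotropic (hB : HS q σ B) {U : Submodule F V} (hU : Nd B U) (h2 : 2 ≤ finrank F U) :
    ∃ w ∈ U, w ≠ 0 ∧ B w w = 0 := by
  obtain ⟨n, hn⟩ : ∃ n, finrank F U = n + 2 := ⟨finrank F U - 2, by omega⟩
  obtain ⟨b, hbU, hb⟩ := exists_ortho_aux hB _ U hU hn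
  have hm1 : ((-1 : F)) ^ q = -1 := by rw [← hB.sig, map_neg, map_one]
  obtain ⟨a, ha⟩ := exists_norm_eq hB.card hm1
  refine ⟨b 0 + a • b 1, U.add_mem (hbU _) (U.smul_mem _ (hbU _)), ?_, ?_⟩
  · intro h
    have h3 := congrArg (fun x => B x (b 0)) h
    simp only [hB.frm.add_left, hB.frm.smul_left, hB.frm.zero_left, hb] at h3
    simp at h3
  · have h01 : (0 : Fin (n + 2)) ≠ 1 := by simp
    rw [hB.frm.add_left, hB.frm.add_right, hB.frm.add_right, hB.frm.smul_left, hB.frm.smul_right, hB.frm.smul_right,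
      hB.frm.smul_left, hb, hb, hb, hb, if_pos rfl, if_pos rfl, if_neg h01, if_neg h01.symm, hB.sig]
    linear_combination ha

omit [FiniteDimensional F V] in
/-- a hyperbolic partner -/
theorem exists_partner (hB : HS q σ B) {U : Submodule F V} (hU : Nd B U) {w : V} (hw : w ∈ U) (hw0 : w ≠ 0)
    (hww : B w w = 0) : ∃ w' ∈ U, B w' w' = 0 ∧ B w w' = 1 := by
  obtain ⟨v, hv, hwv⟩ := hU w hw hw0
  obtain ⟨u, hu, hwu⟩ : ∃ u ∈ U, B w u = 1 := by
    refine ⟨σ (B w v)⁻¹ • v, U.smul_mem _ hv, ?_⟩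
    rw [hB.frm.smul_right, hB.frm.sigma_sq, inv_mul_cancel₀ hwv]
  have huw : B u w = 1 := by rw [herm1 hB w u, hwu, map_one]
  obtain ⟨t, ht⟩ := exists_trace_eq hB.card (c := -B u u) (by rw [← hB.sig, map_neg, hB.sig, self_fix hB])
  refine ⟨u + t • w, U.add_mem hu (U.smul_mem _ hw), ?_, ?_⟩
  · rw [hB.frm.add_left, hB.frm.add_right, hB.frm.add_right, hB.frm.smul_left, hB.frm.smul_right, hB.frm.smul_right,
      hB.frm.smul_left, hwu, huw, hww, hB.sig]
    linear_combination ht
  · rw [hB.frm.add_right, hB.frm.smul_right, hwu, hww, mul_zero, add_zero]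

theorem exists_frame_aux (hB : HS q σ B) (m : ℕ) : ∀ U : Submodule F V, Nd B U →
    (finrank F U = 2 * m ∨ finrank F U = 2 * m + 1) →
    ∃ w w' : Fin m → V, (∀ i, w i ∈ U) ∧ (∀ i, w' i ∈ U) ∧ Fr B w w' := by
  induction m with
  | zero => intro U _ _; exact ⟨Fin.elim0, Fin.elim0, fun i => i.elim0, fun i => i.elim0, fun i => i.elim0,
      fun i => i.elim0, fun i => i.elim0⟩
  | succ m ih =>
    intro U hU hn
    obtain ⟨x, hx, hx0, hxx⟩ := exists_isotropic hB hU (by omega)
    obtain ⟨y, hy, hyy, hxy⟩ := exists_partner hB hU hx hx0 hxx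
    obtain ⟨hnd, hfr⟩ := plane hB hxx hyy hxy
    have hyx : B y x = 1 := by rw [herm1 hB x y, hxy, map_one]
    have hle : Submodule.span F {x, y} ≤ U := by
      rw [Submodule.span_le]
      rintro z (rfl | rfl)
      · exact hx
      · exact hy
    have h1 := hB.frm.finrank_perp_inf hnd hle
    obtain ⟨w, w', hw, hw', hf⟩ := ih _ (hB.frm.nd_perp_inf hU hnd hle) (by omega)
    have hx' : x ∈ Submodule.span F {x, y} := Submodule.subset_span (Set.mem_insert _ _)
    have hy' : y ∈ Submodule.span F {x, y} := Submodule.subset_span (Set.mem_insert_of_mem _ rfl)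
    have e1 : ∀ i, B (w i) x = 0 := fun i => (hw i).1 x hx'
    have e2 : ∀ i, B (w i) y = 0 := fun i => (hw i).1 y hy'
    have e3 : ∀ i, B (w' i) x = 0 := fun i => (hw' i).1 x hx'
    have e4 : ∀ i, B (w' i) y = 0 := fun i => (hw' i).1 y hy'
    have f1 : ∀ i, B x (w i) = 0 := fun i => hB.frm.eq_zero_comm.1 (e1 i)
    have f4 : ∀ i, B y (w' i) = 0 := fun i => hB.frm.eq_zero_comm.1 (e4 i)
    have f3 : ∀ i, B x (w' i) = 0 := fun i => hB.frm.eq_zero_comm.1 (e3 i)
    refine ⟨Fin.cons x w, Fin.cons y w', ?_, ?_, ?_, ?_, ?_⟩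
    · intro i
      refine Fin.cases ?_ (fun i => ?_) i
      · exact hx
      · exact (hw i).2
    · intro i
      refine Fin.cases ?_ (fun i => ?_) i
      · exact hy
      · exact (hw' i).2
    · intro i j
      refine Fin.cases ?_ (fun i => ?_) i <;> refine Fin.cases ?_ (fun j => ?_) j
      · exact hxx
      · exact f1 j
      · exact e1 i
      · exact hf.ww i j
    · intro i j
      refine Fin.cases ?_ (fun i => ?_) i <;> refine Fin.cases ?_ (fun j => ?_) j
      · rw [Fin.cons_zero, Fin.cons_zero, if_pos rfl, hxy]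
      · rw [Fin.cons_zero, Fin.cons_succ, if_neg (Fin.succ_ne_zero j).symm]
        exact f3 j
      · rw [Fin.cons_zero, Fin.cons_succ, if_neg (Fin.succ_ne_zero i)]
        exact e2 i
      · rw [Fin.cons_succ, Fin.cons_succ, hf.dual]
        simp only [Fin.succ_inj]
    · intro i j
      refine Fin.cases ?_ (fun i => ?_) i <;> refine Fin.cases ?_ (fun j => ?_) j
      · exact hyy
      · exact f4 j
      · exact e4 i
      · exact hf.ww' i j

/-- **T0** -/
theorem exists_frame (hB : HS q σ B) {m : ℕ} (hm : finrank F V = 2 * m ∨ finrank F V = 2 * m + 1) :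
    ∃ w w' : Fin m → V, Fr B w w' := by
  obtain ⟨w, w', -, -, h⟩ := exists_frame_aux hB m ⊤ (nd_top hB) (by rwa [finrank_top])
  exact ⟨w, w', h⟩

end Cfsg.Agent.H984.Ore
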