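import Cfsg.Agent.H984.Ore.Asm
import Cfsg.Agent.H951.OreU.T7a
import Cfsg.Agent.H951.OreU.T6
import Cfsg.Agent.H24.Ore.CorStep
import Cfsg.Agent.H117.OrePoly
import Cfsg.Agent.H874.OreTransv

/-!
# S2446, T11 `good_odd`, T13 `comm_rank_one`, `comm_three` (helper984)
-/

set_option autoImplicit false

namespace Cfsg.Agent.H984.OreFinal

open Module Polynomial Cfsg.Agent.H951 Matrix Cfsg.Agent.H98.Ore Cfsg.Agent.H984.Ore

universe u v

theorem hypOdd {F : Type u} [Field F] [Fintype F] {q : ℕ} {σ : F →+* F} : HypOdd.{u, v} F q σ where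
  typeI hB _ hg hns := Cfsg.Agent.H951.OreU.exists_typeI hB hg hns
  step hB _ hg _ h0 h1 := Cfsg.Agent.H951.OreU.exists_step hB hg h0 h1
  hs hB _ hg _ _ _ _ h := Cfsg.Agent.H951.OreU.Step.hs hB hg h
  cor hB _ hg _ _ _ _ h _ _ _ hn _ hP a := Cfsg.Agent.H24.Ore.cor_step_odd hB hg h hn hP a

/-- **T11** -/
theorem good_odd {F V : Type*} [Field F] [Fintype F] [AddCommGroup V] [Module F V] [FiniteDimensional F V]
    {q : ℕ} {σ : F →+* F} {B : V → V → F} (hB : HS q σ B) {g : End F V} (hg : Isom B g) {m : ℕ}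
    (hm : finrank F V = 2 * m + 1) {w : V} {U : Submodule F V} {g₁ : End F U} {b : U → F} (h : Step B g w U g₁ b)
    (hns : ∀ c : F, g₁ ≠ c • (1 : End F U)) : Good B g :=
  good_odd_of hypOdd hB hg hm h hns

/-- the remaining hypotheses of T13: T4 `criterion`, T4b `cor_det`, T5 `comm_scalar`, T12 `comm_of_good` -/
structure HypRest (F : Type u) [Field F] [Fintype F] (q : ℕ) (σ : F →+* F) : Prop where
  criterion : ∀ {V : Type v} [AddCommGroup V] [Module F V] [FiniteDimensional F V] {B : V → V → F} (_ : HS q σ B)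
    {g : End F V} (_ : Isom B g) (_ : LinearMap.det g = 1)
    {ι : Type} [Fintype ι] [DecidableEq ι]
    (_ : finrank F V = 2 * Fintype.card ι ∨ finrank F V = 2 * Fintype.card ι + 1) {P Z h : Matrix ι ι F}
    (_ : Cor B g P) (_ : P * Z * h = h * Z) (_ : h.det = 1) (_ : Z.det ≠ 0)
    (_ : finrank F V = 2 * Fintype.card ι → σ Z.det = Z.det) (_ : IsCoprime Z.charpoly (Z.charpoly.map σ).reverse)
    (_ : Z.charpoly.eval (σ Z.det * Z.det⁻¹) ≠ 0), IsComm B g
  cor_det : ∀ {V : Type v} [AddCommGroup V] [Module F V] [FiniteDimensional F V] {B : V → V → F} (_ : HS q σ B)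
    {g : End F V} (_ : Isom B g)
    {ι : Type} [Fintype ι] [DecidableEq ι] (_ : finrank F V = 2 * Fintype.card ι) {P : Matrix ι ι F}
    (_ : Cor B g P) (_ : P.det ≠ 0), P.det = LinearMap.det g * σ P.det
  comm_scalar : ∀ {V : Type v} [AddCommGroup V] [Module F V] [FiniteDimensional F V] {B : V → V → F} (_ : HS q σ B)
    {l : F} (_ : l ^ (q + 1) = 1) (_ : l ^ finrank F V = 1), IsComm B (l • (1 : End F V))
  of_good : ∀ {V : Type v} [AddCommGroup V] [Module F V] [FiniteDimensional F V] {B : V → V → F} (_ : HS q σ B)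
    (_ : 4 ≤ finrank F V) {g : End F V} (_ : Isom B g) (_ : LinearMap.det g = 1) (_ : Good B g), IsComm B g

theorem hypAsm {F : Type u} [Field F] [Fintype F] {q : ℕ} {σ : F →+* F} (H : HypRest.{u, v} F q σ)
    (hF : Fintype.card F = q ^ 2) (hσ : ∀ a, σ a = a ^ q) : HypAsm.{u, v} F q σ where
  odd := hypOdd
  poly hm := Cfsg.Agent.H117.OrePoly.exists_poly hF σ hσ hm
  transv l hl u φ hu hφ huφ f hf hfm hfd hι hfl :=
    Cfsg.Agent.H874.OreTransv.gl_transv l hl u φ hu hφ huφ f hf hfm hfd hι hfl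
  criterion := H.criterion
  cor_det := H.cor_det
  rank_one_form hB hn _ hg _ hc := Cfsg.Agent.H951.OreU.rank_one_form hB hn hg hc
  frame_transv hB _ hm hn _ _ _ _ hc hk he hee hgv :=
    Cfsg.Agent.H951.OreU.frame_transv hB hm hn hc hk he hee hgv
  comm_aniso hB _ _ hdet _ _ _ hc hcn hee hgv :=
    Cfsg.Agent.H951.OreU.comm_aniso_of (fun _ hU _ h1 h2 => H.comm_scalar hU h1 h2) hB hdet hc hcn hee hgv
  cor_step hB _ hg _ _ _ _ h _ _ _ _ hP s hs := Cfsg.Agent.H24.Ore.cor_step hB hg h hP s hs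
  of_good := H.of_good

section

variable {F : Type u} {V : Type v} [Field F] [Fintype F] [AddCommGroup V] [Module F V] [FiniteDimensional F V]
  {q : ℕ} {σ : F →+* F} {B : V → V → F}

/-- **T13**, from T4, T4b, T5, T12 -/
theorem comm_rank_one (H : HypRest.{u, v} F q σ) (hB : HS q σ B) (hn : 4 ≤ finrank F V) {g : End F V}
    (hg : Isom B g) (hdet : LinearMap.det g = 1)
    {c : F} (hc : finrank F (LinearMap.range (g - c • (1 : End F V))) = 1) : IsComm B g :=
  comm_rank_one_of (hypAsm H hB.card hB.sig) hB hn hg hdet hc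

/-- **T14**, from T4, T4b, T5, T12 -/
theorem comm_three (H : HypRest.{u, v} F q σ) (hB : HS q σ B) (hq : 3 ≤ q) (hn : finrank F V = 3) {g : End F V}
    (hg : Isom B g) (hdet : LinearMap.det g = 1) (hns : ∀ c : F, g ≠ c • (1 : End F V)) : IsComm B g :=
  comm_three_of (hypAsm H hB.card hB.sig) hB hq hn hg hdet hns

end

end Cfsg.Agent.H984.OreFinal
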