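import Cfsg.Agent.H984.Ore.Odd

/-!
# S2446, T13: rank one and dimension three (helper984)
-/

set_option autoImplicit false

namespace Cfsg.Agent.H984.Ore

open Module Polynomial Cfsg.Agent.H951 Matrix Cfsg.Agent.H98.Ore
open Cfsg.Agent.LieClassical.HermBasic

universe u v

/-- T1 - T8b, T12 as hypotheses -/
structure HypAsm (F : Type u) [Field F] [Fintype F] (q : ℕ) (σ : F →+* F) : Prop where
  odd : HypOdd.{u, v} F q σ
  poly : ∀ {m : ℕ} (_ : 2 ≤ m), ∃ f : F[X], Irreducible f ∧ f.Monic ∧ f.natDegree = m ∧ σ (f.coeff 0) = f.coeff 0 ∧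
    IsCoprime f (f.map σ).reverse ∧ ∀ l : F, l ^ (q + 1) = 1 → l ≠ 1 → f.scaleRoots l ≠ f
  transv : ∀ {ι : Type} [Fintype ι] [DecidableEq ι] (l : F) (_ : l ^ Fintype.card ι = 1) (u φ : ι → F) (_ : u ≠ 0)
    (_ : φ ≠ 0) (_ : φ ⬝ᵥ u = 0) (f : F[X]) (_ : Irreducible f) (_ : f.Monic) (_ : f.natDegree = Fintype.card ι)
    (_ : 2 ≤ Fintype.card ι) (_ : f.scaleRoots l ≠ f),
    ∃ Z h : Matrix ι ι F, Z.charpoly = f ∧ h.det = 1 ∧ (l • (1 + Matrix.vecMulVec u φ)) * Z * h = h * Z
  criterion : ∀ {V : Type v} [AddCommGroup V] [Module F V] [FiniteDimensional F V] {B : V → V → F} (_ : HS q σ B)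
    {g : End F V} (_ : Isom B g) (_ : LinearMap.det g = 1)
    {ι : Type} [Fintype ι] [DecidableEq ι]
    (_ : finrank F V = 2 * Fintype.card ι ∨ finrank F V = 2 * Fintype.card ι + 1) {P Z h : Matrix ι ι F}
    (_ : Cor B g P) (_ : P * Z * h = h * Z) (_ : h.det = 1) (_ : Z.det ≠ 0)
    (_ : finrank F V = 2 * Fintype.card ι → σ Z.det = Z.det) (_ : IsCoprime Z.charpoly (Z.charpoly.map σ).reverse)
    (_ : Z.charpoly.eval (σ Z.det * Z.det⁻¹) ≠ 0), IsComm B g
  cor_det : ∀ {V : Type v} [AddCommGroup V] [Module F V] [FiniteDimensional F V] {B : V → V → F} (_ : HS q σ B)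
    {g : End F V} (_ : Isom B g)
    {ι : Type} [Fintype ι] [DecidableEq ι] (_ : finrank F V = 2 * Fintype.card ι) {P : Matrix ι ι F}
    (_ : Cor B g P) (_ : P.det ≠ 0), P.det = LinearMap.det g * σ P.det
  rank_one_form : ∀ {V : Type v} [AddCommGroup V] [Module F V] [FiniteDimensional F V] {B : V → V → F} (_ : HS q σ B)
    (_ : 3 ≤ finrank F V) {g : End F V} (_ : Isom B g) {c : F}
    (_ : finrank F (LinearMap.range (g - c • (1 : End F V))) = 1),
    c ^ (q + 1) = 1 ∧ ∃ (e : V) (k : F), e ≠ 0 ∧ k ≠ 0 ∧ ∀ v, g v = c • v + (k * B v e) • e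
  frame_transv : ∀ {V : Type v} [AddCommGroup V] [Module F V] [FiniteDimensional F V] {B : V → V → F} (_ : HS q σ B)
    {m : ℕ} (_ : 2 ≤ m) (_ : finrank F V = 2 * m) {g : End F V} {c k : F} {e : V}
    (_ : c ≠ 0) (_ : k ≠ 0) (_ : e ≠ 0) (_ : B e e = 0) (_ : ∀ v, g v = c • v + (k * B v e) • e),
    ∃ u φ : Fin m → F, u ≠ 0 ∧ φ ≠ 0 ∧ φ ⬝ᵥ u = 0 ∧
      Cor B g (c • ((1 : Matrix (Fin m) (Fin m) F) + Matrix.vecMulVec u φ))
  comm_aniso : ∀ {V : Type v} [AddCommGroup V] [Module F V] [FiniteDimensional F V] {B : V → V → F} (_ : HS q σ B)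
    {g : End F V} (_ : Isom B g) (_ : LinearMap.det g = 1) {c k : F} {e : V}
    (_ : c ^ (q + 1) = 1) (_ : c ^ (finrank F V - 1) = 1) (_ : B e e ≠ 0)
    (_ : ∀ v, g v = c • v + (k * B v e) • e), IsComm B g
  cor_step : ∀ {V : Type v} [AddCommGroup V] [Module F V] [FiniteDimensional F V] {B : V → V → F} (_ : HS q σ B)
    {g : End F V} (_ : Isom B g) {w : V} {U : Submodule F V} {g₁ : End F U}
    {b : U → F} (_ : Step B g w U g₁ b) {κ : Type} [Fintype κ] [DecidableEq κ]
    {P₁ : Matrix κ κ F} (_ : Cor (res B U) g₁ P₁) (s : F) (_ : σ s = -s),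
    ∃ R : Matrix Unit κ F, (b = 0 → R = 0) ∧
      Cor B g (Matrix.fromBlocks (Matrix.of fun _ _ => s * B (g w) w) R 0 P₁)
  of_good : ∀ {V : Type v} [AddCommGroup V] [Module F V] [FiniteDimensional F V] {B : V → V → F} (_ : HS q σ B)
    (_ : 4 ≤ finrank F V) {g : End F V} (_ : Isom B g) (_ : LinearMap.det g = 1) (_ : Good B g), IsComm B g

/-- a matrix with a given characteristic polynomial -/
theorem exists_matrix {F : Type*} [Field F] {ι : Type*} [Fintype ι] [DecidableEq ι] {f : F[X]} (hf : f.Monic)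
    (hd : f.natDegree = Fintype.card ι) : ∃ Z : Matrix ι ι F, Z.charpoly = f := by
  let pb := AdjoinRoot.powerBasis hf.ne_zero
  have h1 : Fintype.card (Fin pb.dim) = Fintype.card ι := by
    rw [Fintype.card_fin, ← hd]
    rfl
  let e : Fin pb.dim ≃ ι := Fintype.equivOfCardEq h1
  refine ⟨Matrix.reindex e e (Algebra.leftMulMatrix pb.basis pb.gen), ?_⟩
  rw [Matrix.charpoly_reindex, charpoly_leftMulMatrix]
  exact AdjoinRoot.minpoly_powerBasis_gen_of_monic hf

section

variable {F : Type u} [Field F] [Fintype F] {q : ℕ} {σ : F →+* F} {V : Type v} [AddCommGroup V] [Module F V]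
  [FiniteDimensional F V] {B : V → V → F}

/-- the determinant of `c + rank one` -/
theorem det_rank_one (hB : HS q σ B) {g : End F V} {c k : F} {e : V} (hc : c ≠ 0) (hn : 0 < finrank F V)
    (hgv : ∀ v, g v = c • v + (k * B v e) • e) :
    LinearMap.det g = c ^ (finrank F V - 1) * (c + k * B e e) := by
  let f : Dual F V :=
    { toFun := fun v => c⁻¹ * (k * B v e)
      map_add' := fun u v => by rw [hB.frm.add_left]; ring
      map_smul' := fun a v => by rw [hB.frm.smul_left, RingHom.id_apply, smul_eq_mul]; ring }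
  have h1 : g = c • LinearMap.transvection f e := by
    apply LinearMap.ext
    intro v
    rw [hgv, LinearMap.smul_apply, LinearMap.transvection.apply, smul_add, smul_smul]
    show _ = c • v + (c * (c⁻¹ * (k * B v e))) • e
    rw [← mul_assoc c, mul_inv_cancel₀ hc, one_mul]
  have h2 : f e = c⁻¹ * (k * B e e) := rfl
  rw [h1, LinearMap.det_smul, LinearMap.transvection.det, h2]
  obtain ⟨n, hn⟩ : ∃ n, finrank F V = n + 1 := ⟨finrank F V - 1, by omega⟩
  rw [hn, Nat.add_sub_cancel, pow_succ]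
  field_simp

omit [FiniteDimensional F V] in
/-- the first step for `c + rank one` -/
theorem step_rank_one (hB : HS q σ B) {g : End F V} {c k : F} {e : V}
    (hgv : ∀ v, g v = c • v + (k * B v e) • e) {w : V} {U : Submodule F V} {g₁ : End F U} {b : U → F}
    (h : Step B g w U g₁ b) : g₁ = c • (1 : End F U) ∧ b = 0 := by
  have hgw : B (g w) w = k * B w e * B e w := by
    rw [hgv, hB.frm.add_left, hB.frm.smul_left, hB.frm.smul_left, h.iso, mul_zero, zero_add]
  have hne := h.ne
  rw [hgw] at hne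
  have hkw : k * B w e ≠ 0 := left_ne_zero_of_mul hne
  have hgw0 : ∀ v : U, B v e = 0 := by
    intro v
    obtain ⟨h1, h2⟩ := (h.mem v).1 v.2
    rw [hgv, hB.frm.add_right, hB.frm.smul_right, hB.frm.smul_right, h1, mul_zero, zero_add] at h2
    exact (mul_eq_zero.1 h2).resolve_left ((map_ne_zero σ).2 hkw)
  have key : ∀ v : U, (g₁ v : V) + b v • g w = c • (v : V) := by
    intro v
    rw [← h.eq, hgv, hgw0, mul_zero, zero_smul, add_zero]
  have hgwU : g w ∉ U := by
    intro h1
    exact h.ne ((h.mem _).1 h1).1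
  have hb : ∀ v : U, b v = 0 := by
    intro v
    by_contra h1
    apply hgwU
    have h2 : b v • g w ∈ U := by
      have h3 : b v • g w = c • (v : V) - (g₁ v : V) := by
        rw [← key v]
        abel
      rw [h3]
      exact U.sub_mem (U.smul_mem _ v.2) (g₁ v).2
    have h4 := U.smul_mem (b v)⁻¹ h2
    rwa [smul_smul, inv_mul_cancel₀ h1, one_smul] at h4
  constructor
  · apply LinearMap.ext
    intro v
    apply Subtype.ext
    have h1 := key v
    rw [hb, zero_smul, add_zero] at h1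
    exact h1
  · funext v
    exact hb v

theorem comm_rank_one_of (H : HypAsm.{u, v} F q σ) (hB : HS q σ B) (hn : 4 ≤ finrank F V) {g : End F V}
    (hg : Isom B g) (hdet : LinearMap.det g = 1)
    {c : F} (hc : finrank F (LinearMap.range (g - c • (1 : End F V))) = 1) : IsComm B g := by
  obtain ⟨hcq, e, k, he, hk, hgv⟩ := H.rank_one_form hB (by omega) hg hc
  have hc0 : c ≠ 0 := by
    rintro rfl
    rw [zero_pow (by omega)] at hcq
    exact zero_ne_one hcq
  have hns : ∀ c' : F, g ≠ c' • (1 : End F V) := by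
    rintro c' rfl
    have h1 : c' • (1 : End F V) - c • (1 : End F V) = (c' - c) • (1 : End F V) := by rw [sub_smul]
    rw [h1] at hc
    by_cases h2 : c' - c = 0
    · rw [h2, zero_smul, LinearMap.range_zero, finrank_bot] at hc
      omega
    · have h3 : LinearMap.range ((c' - c) • (1 : End F V)) = ⊤ := by
        rw [LinearMap.range_eq_top]
        intro v
        refine ⟨(c' - c)⁻¹ • v, ?_⟩
        rw [LinearMap.smul_apply, Module.End.one_apply, smul_smul, mul_inv_cancel₀ h2, one_smul]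
      rw [h3, finrank_top] at hc
      omega
  obtain ⟨w, hw, hgw⟩ := H.odd.typeI hB hg hns
  obtain ⟨U, g₁, b, h⟩ := H.odd.step hB hg hw hgw
  obtain ⟨hU, hfr⟩ := H.odd.hs hB hg h
  obtain ⟨rfl, rfl⟩ := step_rank_one hB hgv h
  have hdet' := det_rank_one hB hc0 (by omega) hgv
  rw [hdet] at hdet'
  obtain ⟨m, hm⟩ : ∃ m, finrank F V = 2 * (m + 1) ∨ finrank F V = 2 * (m + 1) + 1 :=
    ⟨finrank F V / 2 - 1, by omega⟩
  have hm1 : 1 ≤ m := by omega
  -- the corner `(c ^ m)⁻¹, c, ..., c`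
  have hcor : Cor B g (Matrix.fromBlocks (Matrix.of fun (_ _ : Unit) => (c ^ m)⁻¹) 0 0
      (Matrix.diagonal fun _ : Fin m => c)) := by
    have hU' := cor_scalar hU (c := c) (m := m) (by omega)
    rcases hm with hm | hm
    · obtain ⟨i0, hi0, hi⟩ := exists_trace_zero_ne hB.card
      have hi' : σ i0 = -i0 := by
        rw [hB.sig]
        linear_combination hi
      obtain ⟨R, hR, hcor⟩ := H.cor_step hB hg h hU' i0 hi'
      have hd : (Matrix.fromBlocks (Matrix.of fun (_ _ : Unit) => i0 * B (g w) w) R 0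
          (Matrix.diagonal fun _ : Fin m => c)).det = i0 * B (g w) w * c ^ m := by
        rw [det_block, Matrix.det_diagonal, Finset.prod_const, Finset.card_univ, Fintype.card_fin]
      have hd0 : i0 * B (g w) w * c ^ m ≠ 0 := mul_ne_zero (mul_ne_zero hi0 h.ne) (pow_ne_zero _ hc0)
      have h1 := H.cor_det hB hg (by
        rw [Fintype.card_sum, Fintype.card_unit, Fintype.card_fin]
        omega) hcor (by rw [hd]; exact hd0)
      rw [hd, hdet, one_mul] at h1
      obtain ⟨R', hR', hcor'⟩ := H.cor_step hB hg h hU' (i0 * (i0 * B (g w) w * c ^ m)⁻¹) (by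
        rw [map_mul, map_inv₀, ← h1, hi', neg_mul])
      rw [hR' rfl] at hcor'
      have h2 : i0 * (i0 * B (g w) w * c ^ m)⁻¹ * B (g w) w = (c ^ m)⁻¹ := by
        have h3 := h.ne
        have h4 : c ^ m ≠ 0 := pow_ne_zero _ hc0
        field_simp
      rw [h2] at hcor'
      exact hcor'
    · obtain ⟨R, hR, hcor⟩ := H.odd.cor hB hg h (κ := Fin m) (by rw [Fintype.card_fin]; omega) hU' (c ^ m)⁻¹
      rw [hR rfl ⟨c, rfl⟩] at hcor
      exact hcor
  have hcm1 : Fintype.card (Unit ⊕ Fin m) = m + 1 := by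
    rw [Fintype.card_sum, Fintype.card_unit, Fintype.card_fin, add_comm]
  have hcard : finrank F V = 2 * Fintype.card (Unit ⊕ Fin m) ∨ finrank F V = 2 * Fintype.card (Unit ⊕ Fin m) + 1 := by
    rw [hcm1]
    exact hm
  obtain ⟨f, hf, hfm, hfd, hf0, hfc, hfs⟩ := H.poly (m := m + 1) (by omega)
  have hfr0 : ∀ x : F, f.eval x ≠ 0 := by
    intro x hx
    have h1 := Polynomial.degree_eq_one_of_irreducible_of_root hf hx
    have h2 : f.natDegree = 1 := Polynomial.natDegree_eq_of_degree_eq_some h1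
    omega
  have hcoeff : f.coeff 0 ≠ 0 := by
    rw [Polynomial.coeff_zero_eq_eval_zero]
    exact hfr0 0
  -- determinants of matrices with characteristic polynomial `f`
  have hZdet : ∀ {ι : Type} [Fintype ι] [DecidableEq ι] {Z : Matrix ι ι F}, Z.charpoly = f →
      Z.det ≠ 0 ∧ σ Z.det = Z.det ∧ Z.charpoly.eval (σ Z.det * Z.det⁻¹) ≠ 0 := by
    intro ι _ _ Z hZ
    have h1 : Z.det ≠ 0 := by
      rw [Matrix.det_eq_sign_charpoly_coeff, hZ]
      exact mul_ne_zero (pow_ne_zero _ (neg_ne_zero.2 one_ne_zero)) hcoeff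
    refine ⟨h1, ?_, ?_⟩
    · rw [Matrix.det_eq_sign_charpoly_coeff, hZ, map_mul, hf0, map_pow, map_neg, map_one]
    · rw [hZ]
      exact hfr0 _
  by_cases hc1 : c = 1
  · -- `P = 1`
    subst hc1
    have hP1 : Matrix.fromBlocks (Matrix.of fun (_ _ : Unit) => ((1 : F) ^ m)⁻¹) 0 0
        (Matrix.diagonal fun _ : Fin m => (1 : F)) = 1 := by
      rw [one_pow, inv_one, Matrix.diagonal_one, ← Matrix.fromBlocks_one]
      congr 1
    rw [hP1] at hcor
    obtain ⟨Z, hZ⟩ := exists_matrix (ι := Unit ⊕ Fin m) hfm (by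
      rw [hfd, Fintype.card_sum, Fintype.card_unit, Fintype.card_fin]; omega)
    obtain ⟨h1, h2, h3⟩ := hZdet hZ
    exact H.criterion hB hg hdet hcard (h := 1) hcor (by rw [one_mul, mul_one]) Matrix.det_one h1
      (fun _ => h2) (by rw [hZ]; exact hfc) h3
  by_cases hcm : c ^ (m + 1) = 1
  · rcases hm with hm | hm
    · -- a multiple of a transvection
      have hee : B e e = 0 := by
        rw [hm] at hdet'
        have h1 : c ^ (2 * (m + 1)) = 1 := by rw [mul_comm, pow_mul, hcm, one_pow]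
        have h2 : c ^ (2 * (m + 1) - 1) * (c + k * B e e) = c ^ (2 * (m + 1)) +
            c ^ (2 * (m + 1) - 1) * k * B e e := by
          conv_rhs => rw [show 2 * (m + 1) = (2 * (m + 1) - 1) + 1 by omega, pow_succ]
          rw [Nat.add_sub_cancel]
          ring
        rw [h2, h1] at hdet'
        have h3 : c ^ (2 * (m + 1) - 1) * k * B e e = 0 := by linear_combination -hdet'
        exact (mul_eq_zero.1 h3).resolve_left (mul_ne_zero (pow_ne_zero _ hc0) hk)
      obtain ⟨u, φ, hu, hφ, huφ, hcor2⟩ := H.frame_transv hB (m := m + 1) (by omega) hm hc0 hk he hee hgv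
      obtain ⟨Z, h', hZ, hh, hPZ⟩ := H.transv c (by rw [Fintype.card_fin]; exact hcm) u φ hu hφ huφ f hf hfm
        (by rw [hfd, Fintype.card_fin]) (by rw [Fintype.card_fin]; omega) (hfs c hcq hc1)
      obtain ⟨h1, h2, h3⟩ := hZdet hZ
      exact H.criterion hB hg hdet (Or.inl (by rw [Fintype.card_fin]; exact hm)) hcor2 hPZ hh h1
        (fun _ => h2) (by rw [hZ]; exact hfc) h3
    · have h1 : c ^ (finrank F V - 1) = 1 := by
        rw [hm, Nat.add_sub_cancel, mul_comm, pow_mul, hcm, one_pow]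
      rw [h1, one_mul] at hdet'
      refine H.comm_aniso hB hg hdet hcq h1 ?_ hgv
      intro h2
      rw [h2, mul_zero, add_zero] at hdet'
      exact hc1 hdet'.symm
  · -- `c ^ m * c ≠ 1`: a simple eigenvalue
    refine H.of_good hB hn hg hdet ⟨Unit ⊕ Fin m, inferInstance, inferInstance, _, hcard, hcor, ?_, (c ^ m)⁻¹,
      (Matrix.diagonal fun _ : Fin m => c).charpoly, charpoly_block _ _ _, ?_⟩
    · rw [det_block, Matrix.det_diagonal, Finset.prod_const, Finset.card_univ, Fintype.card_fin,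
        inv_mul_cancel₀ (pow_ne_zero _ hc0)]
    · rw [Matrix.charpoly_diagonal, Finset.prod_const, Polynomial.eval_pow, Polynomial.eval_sub, Polynomial.eval_X,
        Polynomial.eval_C]
      apply pow_ne_zero
      intro h1
      apply hcm
      have h2 : (c ^ m)⁻¹ = c := sub_eq_zero.1 h1
      calc c ^ (m + 1) = c ^ m * c := pow_succ _ _
        _ = c ^ m * (c ^ m)⁻¹ := by rw [h2]
        _ = 1 := mul_inv_cancel₀ (pow_ne_zero _ hc0)

/-! ### dimension three -/

theorem exists_x (hF : Fintype.card F = q ^ 2) (hq : 3 ≤ q) :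
    ∃ x : F, x ≠ 0 ∧ x ^ (q + 1) ≠ 1 ∧ x ^ q ≠ x ^ 2 := by
  classical
  by_contra hcon
  push Not at hcon
  have h1 : (Finset.univ : Finset F) ⊆ (X ^ (q + 1) - 1 : F[X]).roots.toFinset ∪
      (X ^ q - X ^ 2 : F[X]).roots.toFinset := by
    intro x _
    have hp1 : (X ^ (q + 1) - 1 : F[X]) ≠ 0 := Polynomial.X_pow_sub_C_ne_zero (by omega) 1
    have hp2 : (X ^ q - X ^ 2 : F[X]) ≠ 0 := by
      intro h2
      have h3 := congrArg (fun p => p.coeff q) h2
      simp only [Polynomial.coeff_sub, Polynomial.coeff_X_pow, if_pos, Polynomial.coeff_zero] at h3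
      rw [if_neg (by omega), sub_zero] at h3
      exact one_ne_zero h3
    rw [Finset.mem_union, Multiset.mem_toFinset, Multiset.mem_toFinset, Polynomial.mem_roots hp1,
      Polynomial.mem_roots hp2, Polynomial.IsRoot.def, Polynomial.IsRoot.def]
    simp only [Polynomial.eval_sub, Polynomial.eval_pow, Polynomial.eval_X, Polynomial.eval_one]
    by_cases h0 : x = 0
    · right
      rw [h0, zero_pow (by omega), zero_pow (by omega), sub_zero]
    · by_cases h2 : x ^ (q + 1) = 1
      · left; rw [h2, sub_self]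
      · right; rw [hcon x h0 h2, sub_self]
  have h2 := (Finset.card_le_card h1).trans (Finset.card_union_le _ _)
  have h3 : (X ^ (q + 1) - 1 : F[X]).roots.toFinset.card ≤ q + 1 := by
    refine (Multiset.toFinset_card_le _).trans ((Polynomial.card_roots' _).trans ?_)
    rw [show (1 : F[X]) = C 1 from Polynomial.C_1.symm, Polynomial.natDegree_X_pow_sub_C]
  have h4 : (X ^ q - X ^ 2 : F[X]).roots.toFinset.card ≤ q := by
    refine (Multiset.toFinset_card_le _).trans ((Polynomial.card_roots' _).trans ?_)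
    refine (Polynomial.natDegree_sub_le _ _).trans ?_
    rw [Polynomial.natDegree_X_pow, Polynomial.natDegree_X_pow]
    omega
  rw [Finset.card_univ, hF] at h2
  have h5 : q ^ 2 = q * q := pow_two q
  have h6 : 3 * q ≤ q * q := Nat.mul_le_mul_right q hq
  omega

theorem comm_three_of (H : HypAsm.{u, v} F q σ) (hB : HS q σ B) (hq : 3 ≤ q) (hn : finrank F V = 3) {g : End F V}
    (hg : Isom B g) (hdet : LinearMap.det g = 1) (hns : ∀ c : F, g ≠ c • (1 : End F V)) : IsComm B g := by
  obtain ⟨w, hw, hgw⟩ := H.odd.typeI hB hg hns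
  obtain ⟨U, g₁, b, h⟩ := H.odd.step hB hg hw hgw
  obtain ⟨hU, hfr⟩ := H.odd.hs hB hg h
  obtain ⟨R, -, hR⟩ := H.odd.cor hB hg h (κ := Empty) (P₁ := 0) (by rw [Fintype.card_empty]; omega)
    ⟨Empty.elim, Empty.elim, ⟨fun i => i.elim, fun i => i.elim, fun i => i.elim⟩, fun i => i.elim⟩ 1
  have hP : Matrix.fromBlocks (Matrix.of fun (_ _ : Unit) => (1 : F)) R 0 (0 : Matrix Empty Empty F) = 1 := by
    ext i j
    rcases i with i | i
    · rcases j with j | j
      · rw [Matrix.fromBlocks_apply₁₁, Subsingleton.elim j i, Matrix.one_apply_eq]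
        rfl
      · exact j.elim
    · exact i.elim
  rw [hP] at hR
  obtain ⟨x, hx0, hx1, hx2⟩ := exists_x hB.card hq
  obtain ⟨Z, hZ⟩ := exists_matrix (ι := Unit ⊕ Empty) (Polynomial.monic_X_sub_C x) (by
    rw [Polynomial.natDegree_X_sub_C]; rfl)
  have hZd : Z.det = x := by
    rw [Matrix.det_eq_sign_charpoly_coeff, hZ]
    simp
  have hσx : σ x ≠ 0 := (map_ne_zero σ).2 hx0
  refine H.criterion hB hg hdet (ι := Unit ⊕ Empty) (Or.inr (by rw [hn]; rfl)) (h := 1) (Z := Z) hR
    (by rw [one_mul, mul_one]) Matrix.det_one (by rw [hZd]; exact hx0) (fun h2 => ?_) ?_ ?_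
  · exfalso
    rw [hn] at h2
    have h3 : Fintype.card (Unit ⊕ Empty) = 1 := rfl
    omega
  · rw [hZ]
    have h1 : ((X - C x : F[X]).map σ).reverse = C (-σ x) * (X - C (σ x)⁻¹) := by
      rw [Polynomial.map_sub, Polynomial.map_X, Polynomial.map_C]
      ext i
      rw [Polynomial.coeff_reverse, Polynomial.natDegree_X_sub_C, Polynomial.coeff_C_mul, Polynomial.coeff_sub,
        Polynomial.coeff_sub]
      rcases i with _ | _ | i
      · rw [Polynomial.revAt_le (by omega)]
        simp [hσx]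
      · rw [Polynomial.revAt_le (by omega)]
        simp
      · rw [Polynomial.revAt_eq_self_of_lt (by omega)]
        simp [Polynomial.coeff_X, Polynomial.coeff_C]
    rw [h1]
    have h2 : IsUnit (C (-σ x) : F[X]) := Polynomial.isUnit_C.2 (isUnit_iff_ne_zero.2 (neg_ne_zero.2 hσx))
    rw [isCoprime_mul_unit_left_right h2]
    apply Polynomial.isCoprime_X_sub_C_of_isUnit_sub
    rw [isUnit_iff_ne_zero, sub_ne_zero]
    intro h3
    apply hx1
    calc x ^ (q + 1) = σ x * x := by rw [pow_succ, ← hB.sig]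
      _ = σ x * (σ x)⁻¹ := by rw [← h3]
      _ = 1 := mul_inv_cancel₀ hσx
  · rw [hZd, hZ, Polynomial.eval_sub, Polynomial.eval_X, Polynomial.eval_C, hB.sig]
    intro h1
    apply hx2
    have h2 : x ^ q * x⁻¹ = x := sub_eq_zero.1 h1
    calc x ^ q = x ^ q * x⁻¹ * x := by rw [inv_mul_cancel_right₀ hx0]
      _ = x ^ 2 := by rw [h2, pow_two]

end

end Cfsg.Agent.H984.Ore
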