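import Cfsg.Agent.H984.Ore.Frame

/-!
# S2446, T11: good corner in odd dimension (helper984)
-/

set_option autoImplicit false

namespace Cfsg.Agent.H984.Ore

open Module Polynomial Cfsg.Agent.H951 Matrix Cfsg.Agent.H98.Ore
open Cfsg.Agent.LieClassical.HermBasic

universe u v

/-- T7a and T8a as hypotheses -/
structure HypOdd (F : Type u) [Field F] [Fintype F] (q : ℕ) (σ : F →+* F) : Prop where
  typeI : ∀ {V : Type v} [AddCommGroup V] [Module F V] [FiniteDimensional F V] {B : V → V → F} (_ : HS q σ B)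
    {g : End F V} (_ : Isom B g) (_ : ∀ c : F, g ≠ c • (1 : End F V)), ∃ w, B w w = 0 ∧ B (g w) w ≠ 0
  step : ∀ {V : Type v} [AddCommGroup V] [Module F V] [FiniteDimensional F V] {B : V → V → F} (_ : HS q σ B)
    {g : End F V} (_ : Isom B g) {w : V} (_ : B w w = 0) (_ : B (g w) w ≠ 0),
    ∃ (U : Submodule F V) (g₁ : End F U) (b : U → F), Step B g w U g₁ b
  hs : ∀ {V : Type v} [AddCommGroup V] [Module F V] [FiniteDimensional F V] {B : V → V → F} (_ : HS q σ B)
    {g : End F V} (_ : Isom B g) {w : V} {U : Submodule F V} {g₁ : End F U} {b : U → F}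
    (_ : Step B g w U g₁ b), HS q σ (res B U) ∧ finrank F U + 2 = finrank F V
  cor : ∀ {V : Type v} [AddCommGroup V] [Module F V] [FiniteDimensional F V] {B : V → V → F} (_ : HS q σ B)
    {g : End F V} (_ : Isom B g) {w : V} {U : Submodule F V} {g₁ : End F U}
    {b : U → F} (_ : Step B g w U g₁ b) {κ : Type} [Fintype κ] [DecidableEq κ]
    (_ : finrank F U = 2 * Fintype.card κ + 1) {P₁ : Matrix κ κ F} (_ : Cor (res B U) g₁ P₁) (a : F),
    ∃ R : Matrix Unit κ F, (b = 0 → (∃ c : F, g₁ = c • (1 : End F U)) → R = 0) ∧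
      Cor B g (Matrix.fromBlocks (Matrix.of fun _ _ => a) R 0 P₁)

theorem charpoly_block {F : Type*} [Field F] {κ : Type*} [Fintype κ] [DecidableEq κ] (a : F) (R : Matrix Unit κ F)
    (P : Matrix κ κ F) :
    (Matrix.fromBlocks (Matrix.of fun (_ _ : Unit) => a) R 0 P).charpoly = (X - C a) * P.charpoly := by
  rw [Matrix.charpoly_fromBlocks_zero₂₁]
  congr 1
  rw [Matrix.charpoly, Matrix.det_unique, Matrix.charmatrix_apply_eq]
  rfl

theorem det_block {F : Type*} [Field F] {κ : Type*} [Fintype κ] [DecidableEq κ] (a : F) (R : Matrix Unit κ F)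
    (P : Matrix κ κ F) :
    (Matrix.fromBlocks (Matrix.of fun (_ _ : Unit) => a) R 0 P).det = a * P.det := by
  rw [Matrix.det_fromBlocks_zero₂₁, Matrix.det_unique]
  rfl

theorem det_of_charpoly {F : Type*} [Field F] {κ : Type*} [Fintype κ] [DecidableEq κ] {P : Matrix κ κ F} {c : F}
    {m : ℕ} (hm : Fintype.card κ = m) (h : P.charpoly = (X - C c) ^ m) : P.det = c ^ m := by
  rw [Matrix.det_eq_sign_charpoly_coeff, h, hm, Polynomial.coeff_zero_eq_eval_zero, Polynomial.eval_pow, Polynomial.eval_sub, Polynomial.eval_X, Polynomial.eval_C, zero_sub, ← mul_pow]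
  simp

variable {F : Type u} [Field F] [Fintype F] {q : ℕ} {σ : F →+* F}

/-- a corner of a scalar -/
theorem cor_scalar {V : Type v} [AddCommGroup V] [Module F V] [FiniteDimensional F V] {B : V → V → F}
    (hB : HS q σ B) {c : F} {m : ℕ} (hm : finrank F V = 2 * m ∨ finrank F V = 2 * m + 1) :
    Cor B (c • (1 : End F V)) (Matrix.diagonal fun _ : Fin m => c) := by
  obtain ⟨w, w', hf⟩ := exists_frame hB hm
  refine ⟨w, w', hf, fun i j => ?_⟩
  rw [LinearMap.smul_apply, Module.End.one_apply, hB.frm.smul_left, hf.dual, Matrix.diagonal_apply]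
  by_cases hij : i = j
  · rw [if_pos hij, if_pos hij.symm, mul_one]
  · rw [if_neg hij, if_neg (fun h => hij h.symm), mul_zero]

theorem scalar_ne_zero {V : Type v} [AddCommGroup V] [Module F V] [FiniteDimensional F V] {B : V → V → F}
    (hB : HS q σ B) {c : F} (hg : Isom B (c • (1 : End F V))) (h0 : 0 < finrank F V) : c ≠ 0 := by
  rintro rfl
  obtain ⟨b, hb⟩ := exists_orthonormal hB
  have h1 := hg (b ⟨0, h0⟩) (b ⟨0, h0⟩)
  rw [hb, if_pos rfl, zero_smul, LinearMap.zero_apply, hB.frm.zero_left] at h1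
  exact zero_ne_one h1

/-- **The claim**: corners with one eigenvalue. -/
theorem cor_pow (H : HypOdd.{u, v} F q σ) (m : ℕ) : ∀ (V : Type v) [AddCommGroup V] [Module F V]
    [FiniteDimensional F V] (B : V → V → F) (_ : HS q σ B) (g : End F V) (_ : Isom B g)
    (_ : finrank F V = 2 * m + 1), ∃ c : F, c ≠ 0 ∧ ∃ (ι : Type) (_ : Fintype ι) (_ : DecidableEq ι)
      (P : Matrix ι ι F), Fintype.card ι = m ∧ Cor B g P ∧ P.charpoly = (X - C c) ^ m := by
  induction m with
  | zero =>
    intro V _ _ _ B hB g hg hm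
    refine ⟨1, one_ne_zero, Empty, inferInstance, inferInstance, 0, rfl, ⟨Empty.elim, Empty.elim,
      ⟨fun i => i.elim, fun i => i.elim, fun i => i.elim⟩, fun i => i.elim⟩, ?_⟩
    rw [pow_zero, Matrix.charpoly_isEmpty]
  | succ m ih =>
    intro V _ _ _ B hB g hg hm
    by_cases hs : ∃ c : F, g = c • (1 : End F V)
    · obtain ⟨c, rfl⟩ := hs
      refine ⟨c, scalar_ne_zero hB hg (by omega), Fin (m + 1), inferInstance, inferInstance, _, Fintype.card_fin _,
        cor_scalar hB (Or.inr hm), ?_⟩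
      rw [Matrix.charpoly_diagonal, Finset.prod_const, Finset.card_univ, Fintype.card_fin]
    · push Not at hs
      obtain ⟨w, hw, hgw⟩ := H.typeI hB hg hs
      obtain ⟨U, g₁, b, h⟩ := H.step hB hg hw hgw
      obtain ⟨hU, hfr⟩ := H.hs hB hg h
      obtain ⟨c, hc, ι, _, _, P, hι, hP, hch⟩ := ih U (res B U) hU g₁ h.isom (by omega)
      obtain ⟨R, -, hR⟩ := H.cor hB hg h (by omega) hP c
      refine ⟨c, hc, Unit ⊕ ι, inferInstance, inferInstance, _, ?_, hR, ?_⟩
      · rw [Fintype.card_sum, Fintype.card_unit, hι, add_comm]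
      · rw [charpoly_block, hch, pow_succ']

/-- the choice of `a₁` -/
theorem exists_a (hF : Fintype.card F = q ^ 2) (c d : F) (hd : d ≠ 0) :
    ∃ a : F, a ≠ 0 ∧ a ≠ c ∧ a ^ 2 * d ≠ 1 := by
  classical
  have hq := two_le hF
  by_contra hcon
  push Not at hcon
  obtain ⟨S, hS⟩ : ∃ S : Finset F, S = Finset.univ.filter (fun a => a ^ 2 * d = 1) := ⟨_, rfl⟩
  have h1 : (Finset.univ : Finset F) ⊆ {0, c} ∪ S := by
    intro a _
    rw [Finset.mem_union, Finset.mem_insert, Finset.mem_singleton, hS, Finset.mem_filter]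
    by_cases h0 : a = 0
    · exact Or.inl (Or.inl h0)
    · by_cases h2 : a = c
      · exact Or.inl (Or.inr h2)
      · exact Or.inr ⟨Finset.mem_univ _, hcon a h0 h2⟩
  have h2 := (Finset.card_le_card h1).trans (Finset.card_union_le _ _)
  have h3 : ({0, c} : Finset F).card ≤ 2 := Finset.card_le_two
  rw [Finset.card_univ, hF] at h2
  -- two square roots at most
  rcases S.eq_empty_or_nonempty with h4 | ⟨r, hr⟩
  · rw [h4, Finset.card_empty] at h2
    have : 2 ^ 2 ≤ q ^ 2 := Nat.pow_le_pow_left hq 2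
    omega
  · have h5 : S ⊆ {r, -r} := by
      intro a ha
      rw [hS, Finset.mem_filter] at ha hr
      rw [Finset.mem_insert, Finset.mem_singleton]
      have h6 : (a - r) * (a + r) = 0 := by
        have h7 : (a ^ 2 - r ^ 2) * d = 0 := by
          rw [sub_mul, ha.2, hr.2, sub_self]
        rcases mul_eq_zero.1 h7 with h8 | h8
        · linear_combination h8
        · exact absurd h8 hd
      rcases mul_eq_zero.1 h6 with h7 | h7
      · exact Or.inl (sub_eq_zero.1 h7)
      · exact Or.inr (eq_neg_of_add_eq_zero_left h7)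
    rcases Nat.lt_or_ge q 3 with hq3 | hq3
    · obtain rfl : q = 2 := by omega
      have h7 : (2 : F) = 0 := by
        obtain ⟨r', hr'⟩ := CharP.exists F
        have hrp : Fact r'.Prime := ⟨CharP.char_is_prime F r'⟩
        obtain ⟨k, -, hk⟩ := FiniteField.card F r'
        have h8 : r' ∣ 2 := by
          have h9 : r' ∣ 2 ^ 2 := by
            rw [← hF, hk]
            exact dvd_pow_self _ k.ne_zero
          exact hrp.out.dvd_of_dvd_pow h9
        have h10 : r' = 2 := (Nat.prime_dvd_prime_iff_eq hrp.out Nat.prime_two).1 h8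
        subst h10
        exact_mod_cast CharP.cast_eq_zero F 2
      have h8 : -r = r := by
        rw [neg_eq_iff_add_eq_zero, ← two_mul, h7, zero_mul]
      rw [h8, Finset.pair_eq_singleton] at h5
      have h9 := Finset.card_le_card h5
      rw [Finset.card_singleton] at h9
      omega
    · have h9 := (Finset.card_le_card h5).trans Finset.card_le_two
      have : 3 ^ 2 ≤ q ^ 2 := Nat.pow_le_pow_left hq3 2
      omega

theorem good_odd_of (H : HypOdd.{u, v} F q σ) {V : Type v} [AddCommGroup V] [Module F V] [FiniteDimensional F V]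
    {B : V → V → F} (hB : HS q σ B) {g : End F V} (hg : Isom B g) {m : ℕ}
    (hm : finrank F V = 2 * m + 1) {w : V} {U : Submodule F V} {g₁ : End F U} {b : U → F} (h : Step B g w U g₁ b)
    (hns : ∀ c : F, g₁ ≠ c • (1 : End F U)) : Good B g := by
  obtain ⟨hU, hfr⟩ := H.hs hB hg h
  obtain ⟨w₂, hw₂, hgw₂⟩ := H.typeI hU h.isom hns
  obtain ⟨U₂, g₂, b₂, h₂⟩ := H.step hU h.isom hw₂ hgw₂
  obtain ⟨hU₂, hfr₂⟩ := H.hs hU h.isom h₂
  obtain ⟨k, hk⟩ : ∃ k, m = k + 2 := ⟨m - 2, by omega⟩
  obtain ⟨c, hc, ι, _, _, P, hι, hP, hch⟩ := cor_pow H k U₂ (res (res B U) U₂) hU₂ g₂ h₂.isom (by omega)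
  obtain ⟨a, ha0, hac, had⟩ := exists_a hB.card c (c ^ k) (pow_ne_zero _ hc)
  have hck : c ^ k ≠ 0 := pow_ne_zero _ hc
  obtain ⟨R₁, -, hR₁⟩ := H.cor hU h.isom h₂ (by omega) hP (a * c ^ k)⁻¹
  obtain ⟨R, -, hR⟩ := H.cor hB hg h (by
    rw [Fintype.card_sum, Fintype.card_unit, hι]
    omega) hR₁ a
  refine ⟨Unit ⊕ (Unit ⊕ ι), inferInstance, inferInstance, _, Or.inr ?_, hR, ?_, a,
    (X - C (a * c ^ k)⁻¹) * P.charpoly, ?_, ?_⟩
  · rw [Fintype.card_sum, Fintype.card_unit, Fintype.card_sum, Fintype.card_unit, hι]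
    omega
  · rw [det_block, det_block, det_of_charpoly hι hch]
    field_simp
  · rw [charpoly_block, charpoly_block]
  · rw [hch, Polynomial.eval_mul, Polynomial.eval_pow, Polynomial.eval_sub, Polynomial.eval_X, Polynomial.eval_C,
      Polynomial.eval_sub, Polynomial.eval_X, Polynomial.eval_C]
    refine mul_ne_zero ?_ (pow_ne_zero _ (sub_ne_zero.2 hac))
    intro h1
    apply had
    have h2 : a = (a * c ^ k)⁻¹ := sub_eq_zero.1 h1
    have h3 : a * (a * c ^ k) = 1 := by
      calc a * (a * c ^ k) = (a * c ^ k)⁻¹ * (a * c ^ k) := congrArg (fun z => z * (a * c ^ k)) h2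
        _ = 1 := inv_mul_cancel₀ (mul_ne_zero ha0 hck)
    linear_combination h3

end Cfsg.Agent.H984.Ore
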